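import Groth.Prelude.Def_Formal2
import Groth.Agent.Lib.SheafCoh.Sections
import Groth.Agent.Lib.QCoh.Abelian
import Mathlib

/-!
# Degree zero diagram chases for the formal comparison map
-/

set_option autoImplicit false
set_option linter.style.haveILetI false
universe u

open CategoryTheory CategoryTheory.Limits AlgebraicGeometry TopologicalSpace Opposite Formal2

namespace GrothLib.Formal2Chase7

variable {A : Type u} [CommRing A]

/-- Sections of `M~` over `V` as a functor of the module. -/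
noncomputable abbrev secF (V : (Spec (CommRingCat.of A)).Opens) : ModuleCat.{u} (CommRingCat.of A) ⥤ AddCommGrpCat.{u} :=
  tilde.functor (CommRingCat.of A) ⋙ SheafOfModules.toSheaf _ ⋙
    sheafToPresheaf (Opens.grothendieckTopology (Spec (CommRingCat.of A))) AddCommGrpCat.{u} ⋙ (evaluation _ _).obj (op V)

instance secF_preservesFiniteLimits (V : (Spec (CommRingCat.of A)).Opens) : PreservesFiniteLimits (secF (A := A) V) :=
  have _h1 : PreservesFiniteLimits (SheafOfModules.toSheaf.{u} (Spec (CommRingCat.of A)).ringCatSheaf) := inferInstance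
  have _h2 : PreservesFiniteLimits (sheafToPresheaf (Opens.grothendieckTopology (Spec (CommRingCat.of A))) AddCommGrpCat.{u} ⋙
      (evaluation _ _).obj (op V)) := comp_preservesFiniteLimits _ _
  have h3 := comp_preservesFiniteLimits (SheafOfModules.toSheaf.{u} (Spec (CommRingCat.of A)).ringCatSheaf)
    (sheafToPresheaf (Opens.grothendieckTopology (Spec (CommRingCat.of A))) AddCommGrpCat.{u} ⋙ (evaluation _ _).obj (op V))
  @comp_preservesFiniteLimits _ _ _ _ _ _ (tilde.functor (CommRingCat.of A)) _ GrothLib.QCoh.tildeFunctor_preservesFiniteLimits h3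

instance secF_pzm (V : (Spec (CommRingCat.of A)).Opens) : (secF (A := A) V).PreservesZeroMorphisms :=
  haveI : PreservesLimit (Functor.empty.{0} (ModuleCat.{u} (CommRingCat.of A))) (secF (A := A) V) := inferInstance
  inferInstance

variable {M M' M'' : Type u} [AddCommGroup M] [Module A M] [AddCommGroup M'] [Module A M'] [AddCommGroup M''] [Module A M'']

/-- Degree zero cohomology is sections. -/
noncomputable def toSec (M : Type u) [AddCommGroup M] [Module A M] (V : (Spec (CommRingCat.of A)).Opens) :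
    HV A M 0 V ≃+ (secF (A := A) V).obj (ModuleCat.of (CommRingCat.of A) M) :=
  SheafCoh.HU0 (Coh.toAb (tmod A M)) V

theorem HU0_map {X : TopCat.{u}} {F G : CohTop.Ab X} (g : F ⟶ G) (U : Opens X) (ξ : CohTop.HU F 0 U) :
    SheafCoh.HU0 G U (CohTop.HUmap g 0 U ξ) = (g.hom.app (op U)).hom (SheafCoh.HU0 F U ξ) := by
  obtain ⟨ψ, hψ⟩ := (Abelian.Ext.mk₀_bijective _ _).2 (SheafCoh.HUext F 0 U ξ)
  have h : SheafCoh.HUext G 0 U (CohTop.HUmap g 0 U ξ) = Abelian.Ext.mk₀ (ψ ≫ g) :=
    (SheafCoh.map_eq g 0 U ξ).trans (by rw [← hψ]; exact Abelian.Ext.mk₀_comp_mk₀ _ _)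
  show SheafCoh.homFreeY G U (Abelian.Ext.addEquiv₀ (SheafCoh.HUext G 0 U (CohTop.HUmap g 0 U ξ))) =
    (g.hom.app (op U)).hom (SheafCoh.homFreeY F U (Abelian.Ext.addEquiv₀ (SheafCoh.HUext F 0 U ξ)))
  rw [h, ← hψ, ← Abelian.Ext.addEquiv₀_symm_apply, ← Abelian.Ext.addEquiv₀_symm_apply, AddEquiv.apply_symm_apply, AddEquiv.apply_symm_apply]
  exact SheafCoh.homFreeY_comp _ ψ g

theorem toSec_map (φ : M →ₗ[A] M') (V : (Spec (CommRingCat.of A)).Opens) (ξ : HV A M 0 V) :
    toSec M' V (HVmap A φ 0 V ξ) = (secF V).map (ModuleCat.ofHom (R := CommRingCat.of A) φ) (toSec M V ξ) :=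
  HU0_map _ V ξ

theorem HVmap_comp (φ : M' →ₗ[A] M) (ψ : M →ₗ[A] M'') (V : (Spec (CommRingCat.of A)).Opens) (x : HV A M' 0 V) :
    HVmap A ψ 0 V (HVmap A φ 0 V x) = HVmap A (ψ ∘ₗ φ) 0 V x := by
  apply (toSec M'' V).injective
  rw [toSec_map, toSec_map, toSec_map]
  exact (ConcreteCategory.congr_hom ((secF V).map_comp (ModuleCat.ofHom (R := CommRingCat.of A) φ) (ModuleCat.ofHom ψ)) _).symm

theorem res_map (φ : M →ₗ[A] M') {V V' : (Spec (CommRingCat.of A)).Opens} (h : V' ≤ V) (x : HV A M 0 V) :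
    HVres A M' 0 h (HVmap A φ 0 V x) = HVmap A φ 0 V' (HVres A M 0 h x) :=
  (ConcreteCategory.congr_hom (((Sheaf.cohomologyPresheafFunctor _ 0).map
    ((SheafOfModules.toSheaf _).map (tmodMap A φ))).naturality (homOfLE h).op) x).symm

theorem HVmap_zero (V : (Spec (CommRingCat.of A)).Opens) (x : HV A M 0 V) :
    HVmap A (0 : M →ₗ[A] M') 0 V x = 0 := by
  apply (toSec M' V).injective
  rw [toSec_map, map_zero, show ModuleCat.ofHom (R := CommRingCat.of A) (0 : M →ₗ[A] M') = 0 from rfl, Functor.map_zero]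
  rfl

theorem injective_HVmap (φ : M' →ₗ[A] M) (hφ : Function.Injective φ) (V : (Spec (CommRingCat.of A)).Opens) :
    Function.Injective (HVmap A φ 0 V) := by
  haveI : Mono (ModuleCat.ofHom (R := CommRingCat.of A) φ) := (ModuleCat.mono_iff_injective _).2 hφ
  have h : Function.Injective ((secF V).map (ModuleCat.ofHom (R := CommRingCat.of A) φ)) :=
    (AddCommGrpCat.mono_iff_injective _).1 inferInstance
  intro a b hab
  apply (toSec M' V).injective
  apply h
  rw [← toSec_map, ← toSec_map, hab]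

theorem exists_of_map_eq_zero (f : M' →ₗ[A] M) (g : M →ₗ[A] M'') (hf : Function.Injective f) (hg : Function.Surjective g)
    (hfg : LinearMap.range f = LinearMap.ker g) (V : (Spec (CommRingCat.of A)).Opens) (x : HV A M 0 V)
    (hx : HVmap A g 0 V x = 0) : ∃ x', HVmap A f 0 V x' = x := by
  let S : ShortComplex (ModuleCat.{u} (CommRingCat.of A)) := ShortComplex.mk (ModuleCat.ofHom (R := CommRingCat.of A) f) (ModuleCat.ofHom g)
    (ModuleCat.hom_ext (LinearMap.ext fun m => (hfg ▸ LinearMap.mem_range_self f m : f m ∈ LinearMap.ker g)))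
  haveI : Mono S.f := (ModuleCat.mono_iff_injective _).2 hf
  have hS : S.Exact := by
    rw [ShortComplex.moduleCat_exact_iff]
    intro m hm
    exact hfg.ge hm
  have h := hS.map_of_mono_of_preservesKernel (secF V) ‹_› inferInstance
  rw [ShortComplex.ab_exact_iff] at h
  obtain ⟨s, hs⟩ := h (toSec M V x) (by
    show (secF V).map (ModuleCat.ofHom (R := CommRingCat.of A) g) (toSec M V x) = 0
    rw [← toSec_map, hx, map_zero])
  exact ⟨(toSec M' V).symm s, (toSec M V).injective ((toSec_map f V _).trans ((congrArg ((secF V).map (ModuleCat.ofHom (R := CommRingCat.of A) f)).hom (AddEquiv.apply_symm_apply (toSec M' V) s)).trans hs))⟩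

variable (I : Ideal A)

/-- The transition from level `N` to level `n`. -/
def tr (M : Type u) [AddCommGroup M] [Module A M] {n N : ℕ} (h : n ≤ N) : quotPow A I M N →ₗ[A] quotPow A I M n :=
  Submodule.mapQ _ _ LinearMap.id (by
    rw [Submodule.comap_id]
    exact Submodule.smul_mono_left (Ideal.pow_le_pow_right (Nat.succ_le_succ h)))

theorem HVmap_id (V : (Spec (CommRingCat.of A)).Opens) (x : HV A M 0 V) :
    HVmap A (LinearMap.id : M →ₗ[A] M) 0 V x = x := by
  apply (toSec M V).injective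
  rw [toSec_map, show ModuleCat.ofHom (R := CommRingCat.of A) (LinearMap.id : M →ₗ[A] M) = 𝟙 _ from rfl, CategoryTheory.Functor.map_id]
  rfl

theorem iter_generic {G : ℕ → Type*} (t : ∀ n N, n ≤ N → G N → G n) (s : ∀ n, G (n + 1) → G n) (z : ∀ n, G n)
    (hz : ∀ n, s n (z (n + 1)) = z n) (h0 : ∀ n x, t n n le_rfl x = x)
    (h1 : ∀ n N (h : n ≤ N) x, t n (N + 1) (Nat.le_succ_of_le h) x = t n N h (s N x)) {n : ℕ} :
    ∀ {N : ℕ} (h : n ≤ N), t n N h (z N) = z n := by
  intro N h
  induction h with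
  | refl => exact h0 n _
  | @step N h ih => exact (h1 n N h _).trans ((congrArg (t n N h) (hz N)).trans ih)

theorem tr_self (V : (Spec (CommRingCat.of A)).Opens) (n : ℕ) (x : HV A (quotPow A I M n) 0 V) :
    HVmap A (tr I M (le_refl n)) 0 V x = x := by
  have e : tr I M (le_refl n) = LinearMap.id := LinearMap.ext fun m => Submodule.Quotient.induction_on _ m fun x => rfl
  rw [e]
  exact HVmap_id V x

theorem mapQ_id_comp {N : Type u} [AddCommGroup N] [Module A N] (p q r : Submodule A N) (h1 : p ≤ Submodule.comap LinearMap.id r)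
    (h2 : q ≤ Submodule.comap LinearMap.id r) (h3 : p ≤ Submodule.comap LinearMap.id q) :
    Submodule.mapQ p r LinearMap.id h1 = Submodule.mapQ q r LinearMap.id h2 ∘ₗ Submodule.mapQ p q LinearMap.id h3 :=
  LinearMap.ext fun m => Submodule.Quotient.induction_on _ m fun x => rfl

theorem tr_succ (V : (Spec (CommRingCat.of A)).Opens) {n N : ℕ} (h : n ≤ N) (x : HV A (quotPow A I M (N + 1)) 0 V) :
    HVmap A (tr I M (Nat.le_succ_of_le h)) 0 V x = HVmap A (tr I M h) 0 V (HVmap A (quotPowTrans A I M N) 0 V x) := by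
  have e : tr I M (Nat.le_succ_of_le h) = tr I M h ∘ₗ quotPowTrans A I M N :=
    mapQ_id_comp _ _ _ _ _ _
  rw [e]
  exact (HVmap_comp (quotPowTrans A I M N) (tr I M h) V x).symm

theorem tr_compat (V : (Spec (CommRingCat.of A)).Opens) (z : ∀ n, HV A (quotPow A I M n) 0 V)
    (hz : ∀ n, HVmap A (quotPowTrans A I M n) 0 V (z (n + 1)) = z n) {n N : ℕ} (h : n ≤ N) :
    HVmap A (tr I M h) 0 V (z N) = z n :=
  iter_generic (G := fun n => HV A (quotPow A I M n) 0 V) (fun n N h x => HVmap A (tr I M h) 0 V x)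
    (fun n x => HVmap A (quotPowTrans A I M n) 0 V x) z hz (fun n x => tr_self I V n x) (fun n N h x => tr_succ I V h x) h

/-- The map induced on quotients. -/
def quotMap (φ : M →ₗ[A] M') (n : ℕ) : quotPow A I M n →ₗ[A] quotPow A I M' n :=
  Submodule.mapQ _ _ φ (fun x hx => by
    have h1 := Submodule.mem_map_of_mem (f := φ) hx
    rw [Submodule.map_smul''] at h1
    exact Submodule.smul_mono le_rfl le_top h1)

theorem eq_zero_of_map_eq_zero [IsNoetherianRing A] [Module.Finite A M] (f : M' →ₗ[A] M) (hf : Function.Injective f)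
    (V : (Spec (CommRingCat.of A)).Opens) (z : ∀ n, HV A (quotPow A I M' n) 0 V)
    (hz : ∀ n, HVmap A (quotPowTrans A I M' n) 0 V (z (n + 1)) = z n)
    (h0 : ∀ n, HVmap A (quotMap I f n) 0 V (z n) = 0) : ∀ n, z n = 0 := by
  intro n
  obtain ⟨c, hc⟩ := Ideal.exists_pow_inf_eq_pow_smul I (LinearMap.range f)
  let N := n + c
  have hle : (I ^ (N + 1) • (⊤ : Submodule A M)).comap f ≤ I ^ (n + 1) • (⊤ : Submodule A M') := by
    intro x hx
    have h1 : f x ∈ I ^ (N + 1 - c) • (I ^ c • (⊤ : Submodule A M) ⊓ LinearMap.range f) :=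
      (hc (N + 1) (by omega)).le ⟨hx, LinearMap.mem_range_self f x⟩
    have h2 : f x ∈ Submodule.map f (I ^ (n + 1) • (⊤ : Submodule A M')) := by
      rw [Submodule.map_smul'', Submodule.map_top]
      rw [show N + 1 - c = n + 1 by omega] at h1
      exact Submodule.smul_mono le_rfl inf_le_right h1
    obtain ⟨y, hy, hxy⟩ := h2
    exact hf hxy ▸ hy
  let K := (I ^ (N + 1) • (⊤ : Submodule A M)).comap f
  have hK : I ^ (N + 1) • (⊤ : Submodule A M') ≤ K := fun x hx => by
    have h1 := Submodule.mem_map_of_mem (f := f) hx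
    rw [Submodule.map_smul''] at h1
    exact Submodule.smul_mono le_rfl le_top h1
  let α : quotPow A I M' N →ₗ[A] M' ⧸ K := Submodule.factor hK
  let β : (M' ⧸ K) →ₗ[A] quotPow A I M N := Submodule.mapQ K _ f le_rfl
  let γ : (M' ⧸ K) →ₗ[A] quotPow A I M' n := Submodule.factor hle
  have hβ : Function.Injective β := by
    rw [← LinearMap.ker_eq_bot, eq_bot_iff]
    intro m
    induction m using Submodule.Quotient.induction_on with
    | H x => intro hx; exact (Submodule.Quotient.mk_eq_zero _).2 ((Submodule.Quotient.mk_eq_zero (I ^ (N + 1) • (⊤ : Submodule A M))).1 (LinearMap.mem_ker.1 hx))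
  have h1 : HVmap A α 0 V (z N) = 0 := by
    apply injective_HVmap β hβ V
    rw [map_zero, HVmap_comp, ← h0 N]
    congr 2
    exact LinearMap.ext fun m => Submodule.Quotient.induction_on _ m fun x => rfl
  rw [← tr_compat I V z hz (show n ≤ N by omega), show tr I M' (show n ≤ N by omega) = γ ∘ₗ α from
    LinearMap.ext fun m => Submodule.Quotient.induction_on _ m fun x => rfl, ← HVmap_comp, h1, map_zero]

theorem bijective_left [IsNoetherianRing A] [Module.Finite A M] (U : (Spec (CommRingCat.of A)).Opens)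
    (f : M' →ₗ[A] M) (g : M →ₗ[A] M'') (hf : Function.Injective f) (hg : Function.Surjective g)
    (hfg : LinearMap.range f = LinearMap.ker g)
    (h : FormalCohColimBijective A I M 0 U) (h'' : FormalCohColimBijective A I M'' 0 U) :
    FormalCohColimBijective A I M' 0 U := by
  have nat : ∀ {N N' : Type u} [AddCommGroup N] [Module A N] [AddCommGroup N'] [Module A N'] (φ : N →ₗ[A] N') (n : ℕ),
      quotMap I φ n ∘ₗ quotPowπ A I N n = quotPowπ A I N' n ∘ₗ φ := fun φ n => rfl
  have nat' : ∀ {N N' : Type u} [AddCommGroup N] [Module A N] [AddCommGroup N'] [Module A N'] (φ : N →ₗ[A] N') (n : ℕ),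
      quotMap I φ n ∘ₗ quotPowTrans A I N n = quotPowTrans A I N' n ∘ₗ quotMap I φ (n + 1) := fun φ n =>
    LinearMap.ext fun m => Submodule.Quotient.induction_on _ m fun x => rfl
  refine ⟨fun V hV x hx => ?_, fun y hy => ?_⟩
  · obtain ⟨V', hV', hres⟩ := h.1 V hV (HVmap A f 0 V x) fun n => by
      rw [HVmap_comp, ← nat f n, ← HVmap_comp, hx n, map_zero]
    refine ⟨V', hV', injective_HVmap f hf V' ?_⟩
    rw [← res_map, hres, map_zero]
  · obtain ⟨V, hV, x, hx⟩ := h.2 (fun n => HVmap A (quotMap I f n) 0 U (y n)) fun n => by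
      rw [HVmap_comp, ← nat' f n, ← HVmap_comp, hy n]
    obtain ⟨V', ⟨hV', hle⟩, hres⟩ := h''.1 V hV (HVmap A g 0 V x) fun n => by
      rw [HVmap_comp, ← nat g n, ← HVmap_comp, ← hx n, ← res_map]
      rw [show HVmap A (quotMap I g n) 0 U (HVmap A (quotMap I f n) 0 U (y n)) = 0 from ?_, map_zero]
      rw [HVmap_comp, show quotMap I g n ∘ₗ quotMap I f n = 0 from
        LinearMap.ext fun m => Submodule.Quotient.induction_on _ m fun z => (Submodule.Quotient.mk_eq_zero _).2 (by
          rw [show g (f z) = 0 from (hfg ▸ LinearMap.mem_range_self f z : f z ∈ LinearMap.ker g)]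
          exact Submodule.zero_mem _)]
      exact HVmap_zero _ _
    obtain ⟨x', hx'⟩ := exists_of_map_eq_zero f g hf hg hfg V' (HVres A M 0 hle x) (by rw [← res_map, hres])
    refine ⟨V', hV', x', fun n => sub_eq_zero.1 (eq_zero_of_map_eq_zero I f hf V'
      (fun n => HVres A (quotPow A I M' n) 0 hV'.1 (y n) - HVmap A (quotPowπ A I M' n) 0 V' x') (fun n => ?_) (fun n => ?_) n)⟩
    · rw [map_sub, ← res_map, hy n, HVmap_comp]
      rfl
    · rw [map_sub, ← res_map, HVmap_comp (quotPowπ A I M' n), nat f n, ← HVmap_comp, hx', ← res_map (quotPowπ A I M n) hle,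
        ← hx n, sub_eq_zero]
      exact ConcreteCategory.congr_hom ((Sheaf.cohomologyPresheaf _ 0).map_comp (homOfLE hV.1).op (homOfLE hle).op) _

end GrothLib.Formal2Chase7
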